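/-
Elementary abelian 2-groups of matrices in characteristic different from 2 are diagonalisable with signs.
* `exists_sign_frame` : a basis b and signs s with A(a) b_i = ± b_i for all a; s is injective on a faithful group
* `det_of_frame` : the determinant is the product of the signs
* `diagSigns` : the diagonal sign matrices
-/
import Cfsg.Agent.EqLemmas

set_option autoImplicit false

namespace Cfsg.Agent.DiagTwo

open Matrix Module

variable {F : Type*} [Field F] {ι : Type} [Fintype ι] [DecidableEq ι]

/-- The value of a sign in F. -/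
def sgn (F : Type*) [Field F] (b : Bool) : F := if b then -1 else 1

@[simp] theorem sgn_true : sgn F true = -1 := rfl
@[simp] theorem sgn_false : sgn F false = 1 := rfl

theorem sgn_mul_self (b : Bool) : sgn F b * sgn F b = 1 := by cases b <;> simp

theorem sgn_injective (h2 : (2 : F) ≠ 0) : Function.Injective (sgn F) := by
  intro a b h
  cases a <;> cases b <;> simp at h ⊢ <;>
    first | exact h2 (by linear_combination h) | exact h2 (by linear_combination -h)

theorem sgn_xor (a b : Bool) : sgn F (a != b) = sgn F a * sgn F b := by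
  cases a <;> cases b <;> simp

theorem mem_span_eigen (h2 : (2 : F) ≠ 0) {A : Type*} [DecidableEq A] (T : A → Matrix ι ι F)
    (hinv : ∀ a, T a * T a = 1) (hcomm : ∀ a b, T a * T b = T b * T a) (s : Finset A) (v : ι → F) :
    v ∈ Submodule.span F {w | ∀ a ∈ s, T a *ᵥ w = w ∨ T a *ᵥ w = -w} := by
  induction s using Finset.induction_on generalizing v with
  | empty => exact Submodule.subset_span (by simp)
  | insert a s _ ih =>
    refine Submodule.span_induction ?_ (zero_mem _) (fun _ _ _ _ h h' => add_mem h h')
      (fun c _ _ h => Submodule.smul_mem _ c h) (ih v)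
    intro w hw
    have haw : T a *ᵥ (T a *ᵥ w) = w := by rw [Matrix.mulVec_mulVec, hinv, Matrix.one_mulVec]
    have e : w = (2 : F)⁻¹ • (w + T a *ᵥ w) + (2 : F)⁻¹ • (w - T a *ᵥ w) := by
      rw [← smul_add, add_add_sub_cancel, ← two_smul F w, smul_smul, inv_mul_cancel₀ h2, one_smul]
    rw [e]
    refine add_mem (Submodule.smul_mem _ _ (Submodule.subset_span ?_))
      (Submodule.smul_mem _ _ (Submodule.subset_span ?_)) <;> intro b hb <;>
      rcases Finset.mem_insert.mp hb with rfl | hb
    · left; rw [Matrix.mulVec_add, haw, add_comm]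
    · rcases hw b hb with h | h
      · left; rw [Matrix.mulVec_add, Matrix.mulVec_mulVec, hcomm, ← Matrix.mulVec_mulVec, h]
      · right; rw [Matrix.mulVec_add, Matrix.mulVec_mulVec, hcomm, ← Matrix.mulVec_mulVec, h,
          Matrix.mulVec_neg, neg_add]
    · right; rw [Matrix.mulVec_sub, haw, neg_sub]
    · rcases hw b hb with h | h
      · left; rw [Matrix.mulVec_sub, Matrix.mulVec_mulVec, hcomm, ← Matrix.mulVec_mulVec, h]
      · right; rw [Matrix.mulVec_sub, Matrix.mulVec_mulVec, hcomm, ← Matrix.mulVec_mulVec, h,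
          Matrix.mulVec_neg, neg_sub_neg, neg_sub]

/-- An elementary abelian 2-group of matrices has a basis of common eigenvectors. -/
theorem exists_sign_frame (h2 : (2 : F) ≠ 0) {G : Type*} [Group G] (f : G →* Matrix ι ι F)
    (A : Subgroup G) (hA : IsMulCommutative A) [Finite A] (hA2 : ∀ a ∈ A, a ^ 2 = 1) :
    ∃ (b : Basis ι F (ι → F)) (s : ↥A → ι → Bool),
      ∀ a i, f a.1 *ᵥ b i = sgn F (s a i) • b i := by
  classical
  haveI := Fintype.ofFinite ↥A
  let T : ↥A → Matrix ι ι F := fun a => f a.1
  have hinv : ∀ a, T a * T a = 1 := fun a => by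
    show f a.1 * f a.1 = 1
    rw [← map_mul, ← pow_two, hA2 _ a.2, map_one]
  have hcomm : ∀ a b, T a * T b = T b * T a := fun a b => by
    show f a.1 * f b.1 = f b.1 * f a.1
    rw [← map_mul, ← map_mul]
    exact congrArg f (congrArg Subtype.val (hA.is_comm.comm a b))
  set E : Set (ι → F) := {w | ∀ a ∈ (Finset.univ : Finset ↥A), T a *ᵥ w = w ∨ T a *ᵥ w = -w}
  have hE : ⊤ ≤ Submodule.span F E := fun v _ => mem_span_eigen h2 T hinv hcomm _ v
  let b0 := Basis.ofSpan hE
  let e := (Pi.basisFun F ι).indexEquiv b0
  let b : Basis ι F (ι → F) := b0.reindex e.symm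
  have hb : ∀ i, b i ∈ E := fun i => by
    rw [Basis.reindex_apply, Basis.ofSpan_apply_self]
    exact (linearIndepOn_empty F id).extend_subset (Set.empty_subset E) (Subtype.mem _)
  refine ⟨b, fun a i => decide (T a *ᵥ b i ≠ b i), fun a i => ?_⟩
  by_cases h : T a *ᵥ b i = b i
  · simp only [h, ne_eq, not_true_eq_false, decide_false, sgn_false, one_smul]
    exact h
  · simp only [h, ne_eq, not_false_eq_true, decide_true, sgn_true, neg_smul, one_smul]
    exact (hb i a (Finset.mem_univ a)).resolve_left h

theorem eq_of_frame {b : Basis ι F (ι → F)} {M N : Matrix ι ι F}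
    (h : ∀ i, M *ᵥ b i = N *ᵥ b i) : M = N := by
  have := b.ext (f₁ := Matrix.toLin' M) (f₂ := Matrix.toLin' N) (by simpa using h)
  exact Matrix.toLin'.injective this

/-- The determinant of a matrix diagonal in a basis. -/
theorem det_of_frame {b : Basis ι F (ι → F)} {M : Matrix ι ι F} {d : ι → F}
    (h : ∀ i, M *ᵥ b i = d i • b i) : M.det = ∏ i, d i := by
  have e : LinearMap.toMatrix b b (Matrix.toLin' M) = Matrix.diagonal d := by
    ext i j
    rw [LinearMap.toMatrix_apply, Matrix.toLin'_apply, h j, map_smul]
    rcases eq_or_ne i j with rfl | hij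
    · simp
    · simp [hij, Ne.symm hij]
  rw [← LinearMap.det_toLin', ← LinearMap.det_toMatrix b, e, Matrix.det_diagonal]

/-- Sign vectors with an even number of minus signs are determined by all but one coordinate. -/
theorem card_le_of_prod_one (h2 : (2 : F) ≠ 0) {α : Type*} [Finite α] (s : α → ι → Bool)
    (hs : Function.Injective s) (hp : ∀ a, ∏ i, sgn F (s a i) = 1) :
    Nat.card α ≤ 2 ^ (Fintype.card ι - 1) := by
  rcases isEmpty_or_nonempty ι with h | ⟨⟨i0⟩⟩
  · have : Subsingleton α := ⟨fun a b => hs (funext fun i => h.elim i)⟩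
    exact (Finite.card_le_one_iff_subsingleton.mpr this).trans Nat.one_le_two_pow
  have hinj : Function.Injective (fun a (i : {i // i ≠ i0}) => s a i.1) := by
    intro a b hab
    refine hs (funext fun i => ?_)
    by_cases hi : i = i0
    · subst hi
      have h1 := hp a
      have h2' := hp b
      rw [← Finset.mul_prod_erase Finset.univ _ (Finset.mem_univ i)] at h1 h2'
      have e : ∏ j ∈ Finset.univ.erase i, sgn F (s b j) = ∏ j ∈ Finset.univ.erase i, sgn F (s a j) :=
        Finset.prod_congr rfl fun j hj => by
          rw [show s b j = s a j from (congrFun hab ⟨j, Finset.ne_of_mem_erase hj⟩).symm]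
      rw [e, ← h1] at h2'
      exact sgn_injective h2 (mul_right_cancel₀ (right_ne_zero_of_mul_eq_one h1) h2').symm
    · exact congrFun hab ⟨i, hi⟩
  refine (Nat.card_le_card_of_injective _ hinj).trans (le_of_eq ?_)
  rw [Nat.card_fun, Nat.card_eq_fintype_card, Nat.card_eq_fintype_card, Fintype.card_subtype_compl]
  simp

end Cfsg.Agent.DiagTwo
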